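import Mathlib

/-!
# The augmentation of the Čech nerve of a surjection is a trivial fibration
-/

set_option autoImplicit false
set_option backward.isDefEq.respectTransparency false

universe u

open CategoryTheory Opposite Simplicial Limits SimplicialObject

namespace Groth.Agent.CechKan

variable {A B : Type u} (f : A ⟶ B)

/-- The components of a simplex of the nerve. -/
noncomputable abbrev comp {m : SimplexCategoryᵒᵖ} (z : (Arrow.mk f).cechNerve.obj m) (k : Fin (m.unop.len + 1)) : A :=
  WidePullback.π (fun _ : Fin (m.unop.len + 1) => (Arrow.mk f).hom) k z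

/-- The base of a simplex of the nerve. -/
noncomputable abbrev base {m : SimplexCategoryᵒᵖ} (z : (Arrow.mk f).cechNerve.obj m) : B :=
  WidePullback.base (fun _ : Fin (m.unop.len + 1) => (Arrow.mk f).hom) z

theorem ext {m : SimplexCategoryᵒᵖ} {z z' : (Arrow.mk f).cechNerve.obj m} (h0 : base f z = base f z')
    (h : ∀ k, comp f z k = comp f z' k) : z = z' :=
  Concrete.widePullback_ext (fun _ : Fin (m.unop.len + 1) => (Arrow.mk f).hom) z z' h0 h

theorem comp_map {m m' : SimplexCategoryᵒᵖ} (g : m ⟶ m') (z : (Arrow.mk f).cechNerve.obj m)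
    (k : Fin (m'.unop.len + 1)) : comp f ((Arrow.mk f).cechNerve.map g z) k = comp f z (g.unop.toOrderHom k) := by
  simp only [comp, Arrow.cechNerve_map]
  exact ConcreteCategory.congr_hom (WidePullback.lift_π (arrows := fun _ : Fin (m'.unop.len + 1) => (Arrow.mk f).hom)
    (WidePullback.base _) (fun i => WidePullback.π (fun _ : Fin (m.unop.len + 1) => (Arrow.mk f).hom) (g.unop.toOrderHom i))
    (fun i => by simp) k) z

theorem base_map {m m' : SimplexCategoryᵒᵖ} (g : m ⟶ m') (z : (Arrow.mk f).cechNerve.obj m) :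
    base f ((Arrow.mk f).cechNerve.map g z) = base f z := by
  simp only [base, Arrow.cechNerve_map]
  exact ConcreteCategory.congr_hom (WidePullback.lift_base (arrows := fun _ : Fin (m'.unop.len + 1) => (Arrow.mk f).hom)
    (WidePullback.base _) (fun i => WidePullback.π (fun _ : Fin (m.unop.len + 1) => (Arrow.mk f).hom) (g.unop.toOrderHom i))
    (fun i => by simp)) z

theorem hom_comp {m : SimplexCategoryᵒᵖ} (z : (Arrow.mk f).cechNerve.obj m) (k : Fin (m.unop.len + 1)) :
    f (comp f z k) = base f z := by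
  simp only [comp, base]
  rw [← WidePullback.π_arrow (fun _ : Fin (m.unop.len + 1) => (Arrow.mk f).hom) k, ConcreteCategory.comp_apply]
  rfl

theorem exists_simplex (m : SimplexCategoryᵒᵖ) (b : B) (a : Fin (m.unop.len + 1) → A) (h : ∀ k, f (a k) = b) :
    ∃ z : (Arrow.mk f).cechNerve.obj m, base f z = b ∧ ∀ k, comp f z k = a k := by
  let L : PUnit.{u+1} ⟶ (Arrow.mk f).cechNerve.obj m :=
    WidePullback.lift (↾fun _ => b) (fun k => ↾fun _ => a k) (fun k => by
      apply ConcreteCategory.hom_ext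
      intro x
      exact h k)
  refine ⟨L PUnit.unit, ?_, ?_⟩
  · exact ConcreteCategory.congr_hom (WidePullback.lift_base (arrows := fun _ : Fin (m.unop.len + 1) => (Arrow.mk f).hom)
      (↾fun _ : PUnit.{u+1} => b) (fun k => ↾fun _ => a k) (fun k => by
        apply ConcreteCategory.hom_ext
        intro x
        exact h k)) PUnit.unit
  · intro k
    exact ConcreteCategory.congr_hom (WidePullback.lift_π (arrows := fun _ : Fin (m.unop.len + 1) => (Arrow.mk f).hom)
      (↾fun _ : PUnit.{u+1} => b) (fun k => ↾fun _ => a k) (fun k => by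
        apply ConcreteCategory.hom_ext
        intro x
        exact h k) k) PUnit.unit

theorem rlp (hf : Function.Surjective f) :
    SSet.modelCategoryQuillen.I.rlp (Arrow.mk f).augmentedCechNerve.hom := by
  rintro _ _ _ ⟨n⟩
  refine ⟨fun {u v} sq => ?_⟩
  -- the common base point
  let idn : (Δ[n] : SSet.{u}).obj (op ⦋n⦌) := SSet.stdSimplex.objEquiv.symm (𝟙 ⦋n⦌)
  set b : B := v.app (op ⦋n⦌) idn with hb
  have hv : ∀ (m : SimplexCategoryᵒᵖ) (y : (Δ[n] : SSet.{u}).obj m), v.app m y = b := by
    intro m y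
    have h1 := NatTrans.naturality_apply v (SSet.stdSimplex.objEquiv y).op idn
    have h2 : (Δ[n] : SSet.{u}).map (SSet.stdSimplex.objEquiv y).op idn = y := by
      refine (SSet.stdSimplex.map_objEquiv_symm _ _).trans ?_
      simp
    rw [h2] at h1
    exact h1
  have hsq : ∀ (m : SimplexCategoryᵒᵖ) (x : (∂Δ[n] : SSet.{u}).obj m), base f (u.app m x) = b := by
    intro m x
    have h1 := ConcreteCategory.congr_hom (NatTrans.congr_app sq.w m) x
    exact h1.trans (hv m x.1)
  -- the vertices
  have ha : ∀ i : Fin (n + 1), ∃ a : A, f a = b ∧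
      ∀ (x : (∂Δ[n] : SSet.{u}).obj (op ⦋0⦌)), x.1 0 = i → comp f (u.app _ x) 0 = a := by
    intro i
    by_cases h : ∃ x : (∂Δ[n] : SSet.{u}).obj (op ⦋0⦌), x.1 0 = i
    · obtain ⟨x, hx⟩ := h
      refine ⟨comp f (u.app _ x) 0, (hom_comp f _ 0).trans (hsq _ x), fun x' hx' => ?_⟩
      have : x' = x := Subtype.ext (SSet.stdSimplex.obj₀Equiv.injective (hx'.trans hx.symm))
      rw [this]
    · obtain ⟨a, ha⟩ := hf b
      exact ⟨a, ha, fun x hx => absurd ⟨x, hx⟩ h⟩
  choose a ha1 ha2 using ha
  obtain ⟨w, hw0, hw⟩ := exists_simplex f (op ⦋n⦌) b a ha1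
  let L : Δ[n] ⟶ ((Arrow.mk f).cechNerve : SSet.{u}) := SSet.yonedaEquiv.symm w
  have hL : ∀ (m : SimplexCategoryᵒᵖ) (y : (Δ[n] : SSet.{u}).obj m),
      L.app m y = (Arrow.mk f).cechNerve.map (SSet.stdSimplex.objEquiv y).op w := fun m y =>
    (SSet.stdSimplex.map_objEquiv_op_apply (X := ((Arrow.mk f).cechNerve : SSet.{u})) w y).symm
  refine CommSq.HasLift.mk' ⟨L, ?_, ?_⟩
  · ext m x
    show L.app m x.1 = u.app m x
    rw [hL]
    refine ext f ?_ ?_
    · rw [base_map, hw0, hsq]
    · intro k
      rw [comp_map, hw]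
      let g : m ⟶ op ⦋0⦌ := (SimplexCategory.const ⦋0⦌ m.unop k).op
      have h1 := NatTrans.naturality_apply u g x
      have h2 : comp f (u.app _ ((∂Δ[n] : SSet.{u}).map g x)) 0 = comp f (u.app m x) k := by
        rw [h1]
        exact comp_map f g _ 0
      refine Eq.trans ?_ h2
      exact (ha2 _ ((∂Δ[n] : SSet.{u}).map g x) rfl).symm
  · ext m y
    show base f (L.app m y) = v.app m y
    rw [hL, base_map, hw0, hv]

end Groth.Agent.CechKan
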